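import Mathlib
import Groth.Prelude.Def_P1
import Groth.Agent.Lib.Helper4.ChowPn1
import Groth.Agent.Lib.Helper4.P1Curve1

set_option linter.style.haveILetI false
set_option linter.unusedVariables false
set_option linter.unusedSectionVars false
set_option autoImplicit false
set_option backward.isDefEq.respectTransparency.types false
set_option synthInstance.maxHeartbeats 400000
set_option maxHeartbeats 1600000

universe u

/-! helper7: finite locally free covers of the projective line over a base: connectedness of the fibres of the projective line, open and closed subsets containing the preimage of the zero section, connected components -/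

open CategoryTheory CategoryTheory.Limits AlgebraicGeometry TopologicalSpace Opposite

namespace Groth.Agent.Helper7.P1Fin

section Top

/-- for an open and closed map with a finite fibre onto a preconnected space, every point of the
source has an open and closed preconnected neighbourhood -/
theorem exists_isClopen_isPreconnected {X P : Type*} [TopologicalSpace X] [TopologicalSpace P]
    [PreconnectedSpace P] (f : X → P) (hopen : IsOpenMap f) (hclosed : IsClosedMap f) (p0 : P)
    (hfin : (f ⁻¹' {p0}).Finite) (x : X) :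
    ∃ U : Set X, IsClopen U ∧ x ∈ U ∧ _root_.IsPreconnected U := by
  classical
  have hmeet : ∀ B : Set X, IsClopen B → B.Nonempty → (B ∩ f ⁻¹' {p0}).Nonempty := by
    intro B hB hne
    have hfB : IsClopen (f '' B) := ⟨hclosed _ hB.isClosed, hopen _ hB.isOpen⟩
    have h1 : f '' B = Set.univ := hfB.eq_univ (hne.image f)
    have h2 : p0 ∈ f '' B := h1 ▸ Set.mem_univ p0
    obtain ⟨b, hb, hfb⟩ := h2
    exact ⟨b, hb, hfb⟩
  have key : ∀ n : ℕ, ∀ U : Set X, IsClopen U → x ∈ U → (U ∩ f ⁻¹' {p0}).ncard = n →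
      ∃ U' : Set X, IsClopen U' ∧ x ∈ U' ∧ _root_.IsPreconnected U' := by
    intro n
    induction n using Nat.strong_induction_on with
    | _ n ih =>
      intro U hU hxU hn
      by_cases hpre : _root_.IsPreconnected U
      · exact ⟨U, hU, hxU, hpre⟩
      · rw [isPreconnected_iff_subset_of_fully_disjoint_closed hU.isClosed] at hpre
        push Not at hpre
        obtain ⟨u, v, hu, hv, hUuv, hdisj, hnu, hnv⟩ := hpre
        have hdis : ∀ z, z ∈ u → z ∈ v → False := fun z h1 h2 =>
          Set.disjoint_left.1 hdisj h1 h2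
        have hAeq : U ∩ u = U ∩ vᶜ := by
          ext z
          constructor
          · rintro ⟨h1, h2⟩
            exact ⟨h1, fun h3 => hdis z h2 h3⟩
          · rintro ⟨h1, h2⟩
            rcases hUuv h1 with h | h
            · exact ⟨h1, h⟩
            · exact absurd h h2
        have hBeq : U ∩ v = U ∩ uᶜ := by
          ext z
          constructor
          · rintro ⟨h1, h2⟩
            exact ⟨h1, fun h3 => hdis z h3 h2⟩
          · rintro ⟨h1, h2⟩
            rcases hUuv h1 with h | h
            · exact absurd h h2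
            · exact ⟨h1, h⟩
        have hA : IsClopen (U ∩ u) :=
          ⟨hU.isClosed.inter hu, hAeq ▸ hU.isOpen.inter hv.isOpen_compl⟩
        have hB : IsClopen (U ∩ v) :=
          ⟨hU.isClosed.inter hv, hBeq ▸ hU.isOpen.inter hu.isOpen_compl⟩
        have hfinU : (U ∩ f ⁻¹' {p0}).Finite := hfin.subset Set.inter_subset_right
        rcases hUuv hxU with hxu | hxv
        · have hBne : (U ∩ v).Nonempty := by
            by_contra hem
            apply hnu
            intro z hz
            rcases hUuv hz with h | h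
            · exact h
            · exact absurd ⟨z, hz, h⟩ hem
          obtain ⟨b, ⟨hbU, hbv⟩, hbF⟩ := hmeet _ hB hBne
          have hss : (U ∩ u) ∩ f ⁻¹' {p0} ⊂ U ∩ f ⁻¹' {p0} := by
            refine ⟨fun z hz => ⟨hz.1.1, hz.2⟩, fun hsub => ?_⟩
            have h1 := hsub ⟨hbU, hbF⟩
            exact hdis b h1.1.2 hbv
          have hlt := Set.ncard_lt_ncard hss hfinU
          exact ih _ (hn ▸ hlt) (U ∩ u) hA ⟨hxU, hxu⟩ rfl
        · have hAne : (U ∩ u).Nonempty := by
            by_contra hem
            apply hnv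
            intro z hz
            rcases hUuv hz with h | h
            · exact absurd ⟨z, hz, h⟩ hem
            · exact h
          obtain ⟨b, ⟨hbU, hbu⟩, hbF⟩ := hmeet _ hA hAne
          have hss : (U ∩ v) ∩ f ⁻¹' {p0} ⊂ U ∩ f ⁻¹' {p0} := by
            refine ⟨fun z hz => ⟨hz.1.1, hz.2⟩, fun hsub => ?_⟩
            have h1 := hsub ⟨hbU, hbF⟩
            exact hdis b hbu h1.1.2
          have hlt := Set.ncard_lt_ncard hss hfinU
          exact ih _ (hn ▸ hlt) (U ∩ v) hB ⟨hxU, hxv⟩ rfl
  exact key _ Set.univ isClopen_univ (Set.mem_univ x) rfl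

end Top

section Sch

open Groth.Agent.Lib.Helper4.ChowPn1

/-- naturality of the sections of the projective line -/
theorem sect_toP1 {X Y : Scheme.{u}} (f : X ⟶ Y) (i : Fin (1 + 1)) :
    P1.sect X i ≫ P1.toP1 f = f ≫ P1.sect Y i := by
  have key : (pullback.lift (specULiftZIsTerminal.from X ≫ P1.point i) (𝟙 X)
        (specULiftZIsTerminal.hom_ext _ _) :
        X ⟶ pullback (CohB1.ProjSpace.toSpec 1 (ULift.{u} ℤ)) (specULiftZIsTerminal.from X)) ≫
      pullback.map (CohB1.ProjSpace.toSpec 1 (ULift.{u} ℤ)) (specULiftZIsTerminal.from X)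
        (CohB1.ProjSpace.toSpec 1 (ULift.{u} ℤ)) (specULiftZIsTerminal.from Y) (𝟙 _) f (𝟙 _)
        ((Category.comp_id _).trans (Category.id_comp _).symm)
        (specULiftZIsTerminal.hom_ext _ _) =
      f ≫ (pullback.lift (specULiftZIsTerminal.from Y ≫ P1.point i) (𝟙 Y)
        (specULiftZIsTerminal.hom_ext _ _) :
        Y ⟶ pullback (CohB1.ProjSpace.toSpec 1 (ULift.{u} ℤ)) (specULiftZIsTerminal.from Y)) := by
    apply pullback.hom_ext
    · simp only [Category.assoc, pullback.lift_fst, pullback.map,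
        Category.comp_id]
      rw [← Category.assoc]
      congr 1
      exact specULiftZIsTerminal.hom_ext _ _
    · simp only [Category.assoc, pullback.lift_snd, pullback.lift_snd_assoc, pullback.map,
        Category.comp_id, Category.id_comp]
  exact key

theorem isPullback_toP1 {X Y : Scheme.{u}} (f : X ⟶ Y) :
    IsPullback (P1.toP1 f) (CohB1.ProjSpaceOver.toBase 1 X) (CohB1.ProjSpaceOver.toBase 1 Y) f := by
  have outer : IsPullback
      (pullback.fst (CohB1.ProjSpace.toSpec 1 (ULift.{u} ℤ)) (specULiftZIsTerminal.from X))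
      (pullback.snd (CohB1.ProjSpace.toSpec 1 (ULift.{u} ℤ)) (specULiftZIsTerminal.from X))
      (CohB1.ProjSpace.toSpec 1 (ULift.{u} ℤ))
      (specULiftZIsTerminal.from X) := IsPullback.of_hasPullback _ _
  have right : IsPullback
      (pullback.fst (CohB1.ProjSpace.toSpec 1 (ULift.{u} ℤ)) (specULiftZIsTerminal.from Y))
      (pullback.snd (CohB1.ProjSpace.toSpec 1 (ULift.{u} ℤ)) (specULiftZIsTerminal.from Y))
      (CohB1.ProjSpace.toSpec 1 (ULift.{u} ℤ))
      (specULiftZIsTerminal.from Y) := IsPullback.of_hasPullback _ _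
  have h1 : pullback.map (CohB1.ProjSpace.toSpec 1 (ULift.{u} ℤ)) (specULiftZIsTerminal.from X)
        (CohB1.ProjSpace.toSpec 1 (ULift.{u} ℤ)) (specULiftZIsTerminal.from Y) (𝟙 _) f (𝟙 _)
        ((Category.comp_id _).trans (Category.id_comp _).symm)
        (specULiftZIsTerminal.hom_ext _ _) ≫
      pullback.fst (CohB1.ProjSpace.toSpec 1 (ULift.{u} ℤ)) (specULiftZIsTerminal.from Y) =
      pullback.fst (CohB1.ProjSpace.toSpec 1 (ULift.{u} ℤ)) (specULiftZIsTerminal.from X) :=
    (pullback.lift_fst _ _ _).trans (Category.comp_id _)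
  have h2 : f ≫ specULiftZIsTerminal.from Y = specULiftZIsTerminal.from X :=
    specULiftZIsTerminal.hom_ext _ _
  have h3 : pullback.map (CohB1.ProjSpace.toSpec 1 (ULift.{u} ℤ)) (specULiftZIsTerminal.from X)
        (CohB1.ProjSpace.toSpec 1 (ULift.{u} ℤ)) (specULiftZIsTerminal.from Y) (𝟙 _) f (𝟙 _)
        ((Category.comp_id _).trans (Category.id_comp _).symm)
        (specULiftZIsTerminal.hom_ext _ _) ≫
      pullback.snd (CohB1.ProjSpace.toSpec 1 (ULift.{u} ℤ)) (specULiftZIsTerminal.from Y) =
      pullback.snd (CohB1.ProjSpace.toSpec 1 (ULift.{u} ℤ)) (specULiftZIsTerminal.from X) ≫ f :=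
    pullback.lift_snd _ _ _
  have key : IsPullback (pullback.map (CohB1.ProjSpace.toSpec 1 (ULift.{u} ℤ))
        (specULiftZIsTerminal.from X)
        (CohB1.ProjSpace.toSpec 1 (ULift.{u} ℤ)) (specULiftZIsTerminal.from Y) (𝟙 _) f (𝟙 _)
        ((Category.comp_id _).trans (Category.id_comp _).symm)
        (specULiftZIsTerminal.hom_ext _ _))
      (pullback.snd (CohB1.ProjSpace.toSpec 1 (ULift.{u} ℤ)) (specULiftZIsTerminal.from X))
      (pullback.snd (CohB1.ProjSpace.toSpec 1 (ULift.{u} ℤ)) (specULiftZIsTerminal.from Y)) f := by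
    refine IsPullback.of_right ?_ h3 right
    rw [h1, h2]
    exact outer
  exact key

/-- the projective line over a field is connected -/
theorem connectedSpace_P1_field (K : Type u) [Field K] :
    ConnectedSpace (CohB1.ProjSpaceOver 1 (Spec (CommRingCat.of K))) := by
  haveI : IsIntegral (CohB1.ProjSpace 1 K) := Groth.Agent.Lib.Helper4.P1Curve1.isIntegral_P1 K
  haveI : IrreducibleSpace (CohB1.ProjSpace 1 K) := inferInstance
  haveI : ConnectedSpace (CohB1.ProjSpace 1 K) := inferInstance
  have hsurj : Function.Surjective (thetaIso 1 K).hom := fun z =>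
    ⟨(thetaIso 1 K).inv z, by rw [← Scheme.Hom.comp_apply, Iso.inv_hom_id]; rfl⟩
  exact hsurj.connectedSpace (thetaIso 1 K).hom.continuous

/-- every point of the projective line over `S` lies in a preconnected subset meeting the zero
section in the point over the same point of the base -/
theorem exists_preconnected (S : Scheme.{u}) (p : CohB1.ProjSpaceOver 1 S) :
    ∃ K : Set (CohB1.ProjSpaceOver 1 S), _root_.IsPreconnected K ∧ p ∈ K ∧
      P1.sect S 0 (CohB1.ProjSpaceOver.toBase 1 S p) ∈ K := by
  obtain ⟨s, hs⟩ : ∃ s : S, s = CohB1.ProjSpaceOver.toBase 1 S p := ⟨_, rfl⟩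
  rw [← hs]
  haveI : ConnectedSpace (CohB1.ProjSpaceOver 1 (Spec (S.residueField s))) :=
    connectedSpace_P1_field (S.residueField s)
  have hsq := isPullback_toP1 (S.fromSpecResidueField s)
  obtain ⟨pt⟩ : Nonempty (Spec (S.residueField s)) := inferInstance
  have hpt : S.fromSpecResidueField s pt = s := Scheme.fromSpecResidueField_apply s pt
  refine ⟨Set.range (P1.toP1 (S.fromSpecResidueField s)),
    isPreconnected_range (P1.toP1 (S.fromSpecResidueField s)).continuous, ?_, ?_⟩
  · obtain ⟨z, hz1, hz2⟩ := Scheme.Pullback.exists_preimage_pullback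
      (f := CohB1.ProjSpaceOver.toBase 1 S) (g := S.fromSpecResidueField s) p pt
      (by rw [hpt, hs])
    refine ⟨hsq.isoPullback.inv z, ?_⟩
    rw [← Scheme.Hom.comp_apply, hsq.isoPullback_inv_fst]
    exact hz1
  · refine ⟨P1.sect _ 0 pt, ?_⟩
    rw [← Scheme.Hom.comp_apply, sect_toP1, Scheme.Hom.comp_apply, hpt]

theorem zero_mem_of_isClopen (S : Scheme.{u}) (Z : Set (CohB1.ProjSpaceOver 1 S))
    (hZ : IsClopen Z) (p : CohB1.ProjSpaceOver 1 S) (hp : p ∈ Z) :
    P1.sect S 0 (CohB1.ProjSpaceOver.toBase 1 S p) ∈ Z := by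
  obtain ⟨K, hK, hpK, h0⟩ := exists_preconnected S p
  exact hK.subset_isClopen hZ ⟨p, hpK, hp⟩ h0

/-- an open and closed subset containing everything over the zero section is everything -/
theorem eq_univ_of_isClopen (S X : Scheme.{u}) (g : X ⟶ CohB1.ProjSpaceOver 1 S) [IsFinite g]
    [Flat g] [LocallyOfFinitePresentation g] (W : Set X) (hW : IsClopen W)
    (h0 : ∀ x : X, g x ∈ Set.range (P1.sect S 0) → x ∈ W) : W = Set.univ := by
  by_contra hne
  obtain ⟨c, hc⟩ : ∃ c, c ∉ W := (Set.ne_univ_iff_exists_notMem W).1 hne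
  have hZ : IsClopen (g '' Wᶜ) :=
    ⟨g.isClosedMap _ hW.compl.isClosed, g.isOpenMap _ hW.compl.isOpen⟩
  have h1 := zero_mem_of_isClopen S _ hZ (g c) ⟨c, hc, rfl⟩
  obtain ⟨c', hc', hgc'⟩ := h1
  exact hc' (h0 c' ⟨_, hgc'.symm⟩)

theorem finrank_eq (S X T : Scheme.{u}) (g : X ⟶ CohB1.ProjSpaceOver 1 S) (f : T ⟶ X)
    [IsFinite g] [Flat g] [LocallyOfFinitePresentation g]
    [IsFinite f] [Flat f] [LocallyOfFinitePresentation f] (r : ℕ)
    (h : ∀ x : X, g x ∈ Set.range (P1.sect S 0) → f.finrank x = r) (x : X) :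
    f.finrank x = r := by
  have hW : IsClopen {z : X | f.finrank z = r} :=
    (Scheme.Hom.isLocallyConstant_finrank f).isClopen_fiber r
  have h1 := eq_univ_of_isClopen S X g _ hW h
  have h2 : x ∈ {z : X | f.finrank z = r} := h1 ▸ Set.mem_univ x
  exact h2

/-- the projective line over a preconnected base is preconnected -/
theorem preconnectedSpace_P1 (S : Scheme.{u}) [PreconnectedSpace S] :
    PreconnectedSpace (CohB1.ProjSpaceOver 1 S) := by
  refine ⟨isPreconnected_of_forall_pair ?_⟩
  intro x _ y _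
  obtain ⟨Kx, hKx, hxK, hx0⟩ := exists_preconnected S x
  obtain ⟨Ky, hKy, hyK, hy0⟩ := exists_preconnected S y
  have hsig : _root_.IsPreconnected (Set.range (P1.sect S 0)) :=
    isPreconnected_range (P1.sect S 0).continuous
  have h1 : _root_.IsPreconnected (Kx ∪ Set.range (P1.sect S 0)) :=
    hKx.union _ hx0 ⟨_, rfl⟩ hsig
  have h2 : _root_.IsPreconnected ((Kx ∪ Set.range (P1.sect S 0)) ∪ Ky) :=
    h1.union _ (Or.inr ⟨_, rfl⟩) hy0 hKy
  exact ⟨_, Set.subset_univ _, Or.inl (Or.inl hxK), Or.inr hyK, h2⟩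

theorem exists_mem_connectedComponent (S X : Scheme.{u}) [PreconnectedSpace S]
    (f : X ⟶ CohB1.ProjSpaceOver 1 S) [IsFinite f] [Flat f] [LocallyOfFinitePresentation f]
    (x : X) (p : CohB1.ProjSpaceOver 1 S) : ∃ y ∈ connectedComponent x, f y = p := by
  haveI := preconnectedSpace_P1 S
  obtain ⟨U, hU, hxU, hUpre⟩ := exists_isClopen_isPreconnected (fun z : X => f z)
    f.isOpenMap f.isClosedMap p (f.finite_preimage_singleton p) x
  have hfU : IsClopen (f '' U) := ⟨f.isClosedMap _ hU.isClosed, f.isOpenMap _ hU.isOpen⟩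
  have h1 : f '' U = Set.univ := hfU.eq_univ ⟨f x, x, hxU, rfl⟩
  have h2 : p ∈ f '' U := h1 ▸ Set.mem_univ p
  obtain ⟨y, hyU, hy⟩ := h2
  exact ⟨y, hUpre.subset_connectedComponent hxU hyU, hy⟩

end Sch

end Groth.Agent.Helper7.P1Fin
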