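import Mathlib
import Groth.Prelude.Def_W4c5nonratstablectREq
import Groth.Agent.Lib.Helper7.P1Fin.Conn

set_option linter.style.haveILetI false
set_option linter.unusedVariables false
set_option linter.unusedSectionVars false
set_option autoImplicit false
set_option backward.isDefEq.respectTransparency.types false
set_option synthInstance.maxHeartbeats 400000
set_option maxHeartbeats 1600000

universe u

/-! helper7: irreducibility of the projective line over a field; R-equivalence does not cross a closed cover without common rational points -/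

open CategoryTheory CategoryTheory.Limits AlgebraicGeometry TopologicalSpace Opposite
open Groth.Agent.Lib.Helper4.ChowPn1

namespace Groth.Agent.Helper7.P1Fin

/-- the projective line over a field is irreducible -/
theorem preirreducibleSpace_P1_field (K : Type u) [Field K] :
    PreirreducibleSpace (CohB1.ProjSpaceOver 1 (Spec (CommRingCat.of K))) := by
  haveI : IsIntegral (CohB1.ProjSpace 1 K) := Groth.Agent.Lib.Helper4.P1Curve1.isIntegral_P1 K
  haveI : IrreducibleSpace (CohB1.ProjSpace 1 K) := inferInstance
  have hsurj : Function.Surjective (thetaIso 1 K).hom := fun z =>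
    ⟨(thetaIso 1 K).inv z, by rw [← Scheme.Hom.comp_apply, Iso.inv_hom_id]; rfl⟩
  have h1 : IsPreirreducible (Set.range (thetaIso 1 K).hom) := by
    rw [← Set.image_univ]
    exact (PreirreducibleSpace.isPreirreducible_univ).image _
      (thetaIso 1 K).hom.continuous.continuousOn
  rw [hsurj.range_eq] at h1
  exact ⟨h1⟩

/-- points on different sides of a closed cover without common rational points are not
R-equivalent -/
theorem not_rEquiv (k : Type u) [Field k] (Y : Scheme.{u})
    (g : Y ⟶ Spec (CommRingCat.of k)) (K : Type u) [Field K] [Algebra k K]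
    (V W : Set Y) (hV : IsClosed V) (hW : IsClosed W) (hVW : V ∪ W = Set.univ)
    (hT : ∀ z : REq.Pts g K, ¬ (Set.range z.1.base ⊆ V ∩ W))
    (p q : REq.Pts g K) (hp : Set.range p.1.base ⊆ V) (hq : Set.range q.1.base ⊆ W) :
    ¬ REq.REquiv g K p q := by
  have key : ∀ A B : REq.Pts g K, REq.ElemLink g K A B →
      (Set.range A.1.base ⊆ V → Set.range B.1.base ⊆ V) ∧
      (Set.range B.1.base ⊆ V → Set.range A.1.base ⊆ V) := by
    rintro A B ⟨U, h, a, b, -, -, -, ha, hb⟩
    haveI := preirreducibleSpace_P1_field K
    have hU0 : IsPreirreducible (U : Set (REq.P1K K)) :=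
      (PreirreducibleSpace.isPreirreducible_univ).open_subset U.2 (Set.subset_univ _)
    haveI hU1 : PreirreducibleSpace ↥(U : Scheme.{u}) := Subtype.preirreducibleSpace hU0
    have hUirr : IsPreirreducible (Set.univ : Set ↥(U : Scheme.{u})) :=
      PreirreducibleSpace.isPreirreducible_univ
    have hcov : (Set.univ : Set ↥(U : Scheme.{u})) ⊆ h ⁻¹' V ∪ h ⁻¹' W := by
      intro t _
      have h1 : h t ∈ V ∪ W := hVW ▸ Set.mem_univ (h t)
      exact h1
    have hAeq : ∀ t, A.1.base t = h (a t) := by
      intro t
      rw [← ha]
      rfl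
    have hBeq : ∀ t, B.1.base t = h (b t) := by
      intro t
      rw [← hb]
      rfl
    rcases (isPreirreducible_iff_isClosed_union_isClosed.1 hUirr) _ _
      (hV.preimage h.continuous) (hW.preimage h.continuous) hcov with h1 | h1
    · have hA : Set.range A.1.base ⊆ V := by
        rintro _ ⟨t, rfl⟩
        rw [hAeq]
        exact h1 (Set.mem_univ (a t))
      have hB : Set.range B.1.base ⊆ V := by
        rintro _ ⟨t, rfl⟩
        rw [hBeq]
        exact h1 (Set.mem_univ (b t))
      exact ⟨fun _ => hB, fun _ => hA⟩
    · have hA : Set.range A.1.base ⊆ W := by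
        rintro _ ⟨t, rfl⟩
        rw [hAeq]
        exact h1 (Set.mem_univ (a t))
      have hB : Set.range B.1.base ⊆ W := by
        rintro _ ⟨t, rfl⟩
        rw [hBeq]
        exact h1 (Set.mem_univ (b t))
      exact ⟨fun hAV => absurd (Set.subset_inter hAV hA) (hT A),
        fun hBV => absurd (Set.subset_inter hBV hB) (hT B)⟩
  have key2 : ∀ A B : REq.Pts g K, REq.REquiv g K A B →
      (Set.range A.1.base ⊆ V ↔ Set.range B.1.base ⊆ V) := by
    intro A B hAB
    induction hAB with
    | rel x y h => exact ⟨(key x y h).1, (key x y h).2⟩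
    | refl x => exact Iff.rfl
    | symm x y _ ih => exact ih.symm
    | trans x y z _ _ ih1 ih2 => exact ih1.trans ih2
  intro hpq
  have h1 := (key2 p q hpq).1 hp
  exact hT q (Set.subset_inter h1 hq)

end Groth.Agent.Helper7.P1Fin
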